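import Cfsg.Agent.FGS4.SchurSylow.Basic

/-! A Sylow 2-subgroup of `M₂₃`, given by seven involutions, splits in every central extension by a
group of order two in which its involutions lift to involutions and two particular squares agree. -/

set_option autoImplicit false

namespace Cfsg.Agent.FGS4.SchurSylow

open Subgroup
open scoped commutatorElement

universe u v

variable {Γ : Type u} [Group Γ] {Q : Type v} [Group Q]

theorem card_closure_insert_le [Finite Γ] {E : Γ} {s : Set Γ} (hE : E * E = 1)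
    (hs : ∀ x ∈ s, E * x * E ∈ closure s) :
    Nat.card (closure (insert E s)) ≤ 2 * Nat.card (closure s) := by
  have hEi : E⁻¹ = E := inv_eq_of_mul_eq_one_right hE
  have hconj : ∀ x ∈ closure s, E * x * E ∈ closure s := by
    intro x hx
    have hle : closure s ≤ (closure s).comap (MulAut.conj E).toMonoidHom := by
      rw [closure_le]
      intro y hy
      show E * y * E⁻¹ ∈ closure s
      rw [hEi]
      exact hs y hy
    have : E * x * E⁻¹ ∈ closure s := hle hx
    rwa [hEi] at this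
  let f : Bool × closure s → Γ := fun q => (bif q.1 then E else 1) * (q.2 : Γ)
  have hsub : ∀ x ∈ closure (insert E s), x ∈ Set.range f := by
    have hl : ∀ (q : Γ), q ∈ insert E s ∨ q⁻¹ ∈ insert E s → ∀ y ∈ Set.range f, q * y ∈ Set.range f := by
      intro q hq y hy
      obtain ⟨⟨b, n⟩, rfl⟩ := hy
      have hq' : q = E ∨ q ∈ closure s := by
        rcases hq with (h | h) | (h | h)
        · exact Or.inl h
        · exact Or.inr (subset_closure h)
        · exact Or.inl (by rw [← inv_inv q, h, hEi])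
        · exact Or.inr (by simpa using inv_mem (subset_closure h : q⁻¹ ∈ closure s))
      rcases hq' with rfl | hq'
      · cases b
        · exact ⟨(true, n), by simp [f]⟩
        · exact ⟨(false, n), by simp [f, ← mul_assoc, hE]⟩
      · cases b
        · exact ⟨(false, ⟨q * n, mul_mem hq' n.2⟩), by simp [f]⟩
        · refine ⟨(true, ⟨E * q * E * n, mul_mem (hconj q hq') n.2⟩), ?_⟩
          simp only [f, cond_true]
          calc E * (E * q * E * n) = (E * E) * q * E * n := by simp [mul_assoc]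
            _ = q * (E * n) := by rw [hE, one_mul, mul_assoc]
    intro x hx
    induction hx using closure_induction_left with
    | one => exact ⟨(false, 1), by simp [f]⟩
    | mul_left q hq y hy ih => exact hl q (Or.inl hq) y ih
    | inv_mul_cancel q hq y hy ih => exact hl q⁻¹ (Or.inr (by rwa [inv_inv])) y ih
  calc Nat.card (closure (insert E s)) ≤ Nat.card (Set.range f) :=
        Nat.card_le_card_of_injective (fun x => ⟨x.1, hsub x.1 x.2⟩)
          (fun a b h => Subtype.ext (congrArg (fun r : Set.range f => (r : Γ)) h))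
    _ ≤ Nat.card (Bool × closure s) := Finite.card_range_le f
    _ = 2 * Nat.card (closure s) := by rw [Nat.card_prod]; simp

theorem commute_of_sq {x y : Γ} (hx : x * x = 1) (hy : y * y = 1) (hxy : (x * y) * (x * y) = 1) :
    y * x = x * y := by
  have h1 : (x * y)⁻¹ = x * y := inv_eq_of_mul_eq_one_right hxy
  rwa [mul_inv_rev, inv_eq_of_mul_eq_one_right hx, inv_eq_of_mul_eq_one_right hy] at h1

/-- The seven generators and their relations, as found in `M₂₃`. -/
structure SylowData (Q : Type v) [Group Q] where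
  e0 : Q
  e1 : Q
  e2 : Q
  e3 : Q
  e4 : Q
  e5 : Q
  e6 : Q
  r01 : e0 * e1 * e0 = e1 * e5
  r04 : e0 * e4 * e0 = e2 * e3 * e4
  r06 : e0 * e6 * e0 = e3 * e6
  r12 : e1 * e2 * e1 = e2 * e6
  r14 : e1 * e4 * e1 = e3 * e4 * e6
  r25 : e2 * e5 * e2 = e3 * e5
  r45 : e4 * e5 * e4 = e5 * e6
  g : Q
  hg1 : g * (e3 * e4 * e5 * e6) = (e1 * e2 * e3 * e5 * e6) * g
  hg2 : g * (e1 * e2 * e4 * e5 * e6) = (e2 * e3 * e4 * e5 * e6) * g
  card : Nat.card (closure ({e0, e1, e2, e3, e4, e5, e6} : Set Q)) = 128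

/-- The elements whose lifts have to be involutions. -/
def SylowData.invols (D : SylowData Q) : List Q :=
  [D.e0, D.e1, D.e2, D.e3, D.e4, D.e5, D.e6, D.e0 * D.e2, D.e0 * D.e3, D.e0 * D.e5, D.e1 * D.e3,
    D.e1 * D.e5, D.e1 * D.e6, D.e2 * D.e3, D.e2 * D.e4, D.e2 * D.e6, D.e3 * D.e4, D.e3 * D.e5,
    D.e3 * D.e6, D.e4 * D.e6, D.e5 * D.e6, D.e0 * D.e2 * D.e5 * D.e6, D.e2 * D.e3 * D.e4]

theorem stem_false_m23 [Finite Γ] {σ : Γ →* Q} (hσ : Cfsg.IsStemExtension σ) (D : SylowData Q)
    (S : Sylow 2 Q) (hS : (S : Subgroup Q) = closure {D.e0, D.e1, D.e2, D.e3, D.e4, D.e5, D.e6})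
    {z : Γ} (hz : z ∈ σ.ker) (hzo : orderOf z = 2) (hker : ∀ w ∈ σ.ker, w * w = 1)
    (hinv : ∀ X : Γ, σ X ∈ D.invols → X * X = 1) : False := by
  have hc : ∀ w ∈ σ.ker, ∀ y : Γ, y * w = w * y := fun w hw => mem_center_iff.1 (hσ.2.1 hw)
  obtain ⟨A0, a0⟩ := hσ.1 D.e0
  obtain ⟨A1, a1⟩ := hσ.1 D.e1
  obtain ⟨A4, a4⟩ := hσ.1 D.e4
  obtain ⟨G, ag⟩ := hσ.1 D.g
  have memI : ∀ {X : Γ} {q : Q}, σ X = q → q ∈ D.invols → X * X = 1 := fun h1 h2 => hinv _ (h1 ▸ h2)
  have s0 : A0 * A0 = 1 := memI a0 (by simp [SylowData.invols])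
  have s1 : A1 * A1 = 1 := memI a1 (by simp [SylowData.invols])
  have s4 : A4 * A4 = 1 := memI a4 (by simp [SylowData.invols])
  have q0 : D.e0 * D.e0 = 1 := by rw [← a0, ← map_mul, s0, map_one]
  have q1 : D.e1 * D.e1 = 1 := by rw [← a1, ← map_mul, s1, map_one]
  have q4 : D.e4 * D.e4 = 1 := by rw [← a4, ← map_mul, s4, map_one]
  have qq : ∀ {q : Q}, q ∈ D.invols → q * q = 1 := fun {q} hq => by
    obtain ⟨X, hX⟩ := hσ.1 q
    rw [← hX, ← map_mul, memI hX hq, map_one]
  have q5 : D.e5 * D.e5 = 1 := qq (by simp [SylowData.invols])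
  have q6 : D.e6 * D.e6 = 1 := qq (by simp [SylowData.invols])
  have q3 : D.e3 * D.e3 = 1 := qq (by simp [SylowData.invols])
  obtain ⟨A5, d5⟩ : ∃ A5, A5 = A1 * (A0 * A1 * A0) := ⟨_, rfl⟩
  have a5 : σ A5 = D.e5 := by
    rw [d5]; simp only [map_mul, a0, a1]
    rw [D.r01, ← mul_assoc, q1, one_mul]
  obtain ⟨A6, d6⟩ : ∃ A6, A6 = A5 * (A4 * A5 * A4) := ⟨_, rfl⟩
  have a6 : σ A6 = D.e6 := by
    rw [d6]; simp only [map_mul, a4, a5]
    rw [D.r45, ← mul_assoc, q5, one_mul]
  obtain ⟨A3, d3⟩ : ∃ A3, A3 = A0 * A6 * A0 * A6 := ⟨_, rfl⟩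
  have a3 : σ A3 = D.e3 := by
    rw [d3]; simp only [map_mul, a0, a6]
    rw [D.r06, mul_assoc, q6, mul_one]
  obtain ⟨A2, d2⟩ : ∃ A2, A2 = A0 * A4 * A0 * A4 * A3 := ⟨_, rfl⟩
  have a2 : σ A2 = D.e2 := by
    rw [d2]; simp only [map_mul, a0, a3, a4]
    rw [D.r04, mul_assoc (D.e2 * D.e3) D.e4 D.e4, q4, mul_one, mul_assoc, q3, mul_one]
  have s2 : A2 * A2 = 1 := memI a2 (by simp [SylowData.invols])
  have s3 : A3 * A3 = 1 := memI a3 (by simp [SylowData.invols])
  have s5 : A5 * A5 = 1 := memI a5 (by simp [SylowData.invols])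
  have s6 : A6 * A6 = 1 := memI a6 (by simp [SylowData.invols])
  have cm : ∀ {X Y : Γ} {p q : Q}, σ X = p → σ Y = q → X * X = 1 → Y * Y = 1 → p * q ∈ D.invols →
      Y * X = X * Y := fun hX hY hXX hYY hpq =>
    commute_of_sq hXX hYY (hinv _ (by rwa [map_mul, hX, hY]))
  have c02 := cm a0 a2 s0 s2 (by simp [SylowData.invols])
  have c03 := cm a0 a3 s0 s3 (by simp [SylowData.invols])
  have c05 := cm a0 a5 s0 s5 (by simp [SylowData.invols])
  have c13 := cm a1 a3 s1 s3 (by simp [SylowData.invols])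
  have c15 := cm a1 a5 s1 s5 (by simp [SylowData.invols])
  have c16 := cm a1 a6 s1 s6 (by simp [SylowData.invols])
  have c23 := cm a2 a3 s2 s3 (by simp [SylowData.invols])
  have c24 := cm a2 a4 s2 s4 (by simp [SylowData.invols])
  have c26 := cm a2 a6 s2 s6 (by simp [SylowData.invols])
  have c34 := cm a3 a4 s3 s4 (by simp [SylowData.invols])
  have c35 := cm a3 a5 s3 s5 (by simp [SylowData.invols])
  have c36 := cm a3 a6 s3 s6 (by simp [SylowData.invols])
  have c46 := cm a4 a6 s4 s6 (by simp [SylowData.invols])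
  have c56 := cm a5 a6 s5 s6 (by simp [SylowData.invols])
  have L : ∀ {a b c : Γ}, a * b = c → ∀ x : Γ, a * (b * x) = c * x := fun h x => by rw [← mul_assoc, h]
  have flip : ∀ {X Y W : Γ}, X * X = 1 → X * Y * X = W → Y * X = X * W := fun {X Y W} hX h => by
    rw [← h, ← mul_assoc, ← mul_assoc, hX, one_mul]
  have m01 : A1 * A0 = A0 * (A1 * A5) := flip s0 (by rw [d5, ← mul_assoc, s1, one_mul])
  have m45 : A5 * A4 = A4 * (A5 * A6) := flip s4 (by rw [d6, ← mul_assoc, s5, one_mul])
  have m06 : A6 * A0 = A0 * (A3 * A6) := flip s0 (by rw [d3, mul_assoc (A0 * A6 * A0), s6, mul_one])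
  have m04 : A4 * A0 = A0 * (A2 * (A3 * A4)) := flip s0 (by
    rw [d2, mul_assoc (A0 * A4 * A0 * A4) A3 (A3 * A4), ← mul_assoc A3 A3 A4, s3, one_mul, mul_assoc (A0 * A4 * A0), s4,
      mul_one])
  obtain ⟨w5, hw5, m25⟩ : ∃ w ∈ σ.ker, A5 * A2 = w * (A2 * (A3 * A5)) := by
    refine ⟨A5 * A2 * (A2 * (A3 * A5))⁻¹, ?_, (inv_mul_cancel_right _ _).symm⟩
    have e : A2 * A5 * A2 * (A3 * A5)⁻¹ ∈ σ.ker := by
      rw [MonoidHom.mem_ker]
      simp only [map_mul, map_inv, a2, a3, a5]
      rw [D.r25, mul_inv_cancel]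
    have e2 : A5 * A2 * (A2 * (A3 * A5))⁻¹ = A2 * (A2 * A5 * A2 * (A3 * A5)⁻¹) * A2⁻¹ := by
      simp [mul_assoc, ← mul_assoc A2 A2, s2]
    rw [e2]
    exact (MonoidHom.normal_ker σ).conj_mem _ e A2
  obtain ⟨w3, hw3, m12⟩ : ∃ w ∈ σ.ker, A2 * A1 = w * (A1 * (A2 * A6)) := by
    refine ⟨A2 * A1 * (A1 * (A2 * A6))⁻¹, ?_, (inv_mul_cancel_right _ _).symm⟩
    have e : A1 * A2 * A1 * (A2 * A6)⁻¹ ∈ σ.ker := by
      rw [MonoidHom.mem_ker]
      simp only [map_mul, map_inv, a1, a2, a6]
      rw [D.r12, mul_inv_cancel]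
    have e2 : A2 * A1 * (A1 * (A2 * A6))⁻¹ = A1 * (A1 * A2 * A1 * (A2 * A6)⁻¹) * A1⁻¹ := by
      simp [mul_assoc, ← mul_assoc A1 A1, s1]
    rw [e2]
    exact (MonoidHom.normal_ker σ).conj_mem _ e A1
  obtain ⟨w4, hw4, m14⟩ : ∃ w ∈ σ.ker, A4 * A1 = w * (A1 * (A3 * (A4 * A6))) := by
    refine ⟨A4 * A1 * (A1 * (A3 * (A4 * A6)))⁻¹, ?_, (inv_mul_cancel_right _ _).symm⟩
    have e : A1 * A4 * A1 * (A3 * A4 * A6)⁻¹ ∈ σ.ker := by
      rw [MonoidHom.mem_ker]
      simp only [map_mul, map_inv, a1, a3, a4, a6]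
      rw [D.r14, mul_inv_cancel]
    have e2 : A4 * A1 * (A1 * (A3 * (A4 * A6)))⁻¹ = A1 * (A1 * A4 * A1 * (A3 * A4 * A6)⁻¹) * A1⁻¹ := by
      simp [mul_assoc, ← mul_assoc A1 A1, s1]
    rw [e2]
    exact (MonoidHom.normal_ker σ).conj_mem _ e A1
  have pull : ∀ {w : Γ}, w ∈ σ.ker → ∀ (a x : Γ), a * (w * x) = w * (a * x) := fun {w} hw a x => by
    rw [← mul_assoc, hc w hw a, mul_assoc]
  have h5 : w5 = 1 := by
    have h := memI (X := A0 * A2 * A5 * A6) (q := D.e0 * D.e2 * D.e5 * D.e6)
      (by simp only [map_mul, a0, a2, a5, a6]) (by simp [SylowData.invols])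
    have k0 := pull hw5 A0
    have k2 := pull hw5 A2
    have k3 := pull hw5 A3
    have k5 := pull hw5 A5
    simpa [mul_assoc, s0, s2, s3, s5, s6, L s0, L s2, L s3, L s5, L s6, c02, c03, c05, c23, c26, c35, c36,
      c56, L c02, L c03, L c05, L c23, L c26, L c35, L c36, L c56, m06, L m06, m25, L m25, k0, k2, k3, k5,
      ← hc w5 hw5] using h
  subst h5
  simp only [one_mul] at m25
  have h3 : w3 = 1 := by
    have key : A4 * A1 * A0 = A4 * (A1 * A0) := mul_assoc _ _ _
    rw [m14, m01, mul_assoc w4] at key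
    have k0 := pull hw3 A0
    have k1 := pull hw3 A1
    have k2 := pull hw3 A2
    have k3 := pull hw3 A3
    have k4 := pull hw3 A4
    have l0 := pull hw4 A0
    have l1 := pull hw4 A1
    have l2 := pull hw4 A2
    have l3 := pull hw4 A3
    have l4 := pull hw4 A4
    have lw := pull hw4 w3
    simp only [mul_assoc, s0, s1, s2, s3, s4, s5, s6, L s0, L s1, L s2, L s3, L s4, L s5, L s6, c02, c03,
      c05, c13, c15, c16, c23, c24, c26, c34, c35, c36, c46, c56, L c02, L c03, L c05, L c13, L c15, L c16,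
      L c23, L c24, L c26, L c34, L c35, L c36, L c46, L c56, m01, m04, m06, m12, m14, m25, m45, L m01,
      L m04, L m06, L m12, L m14, L m25, L m45, k0, k1, k2, k3, k4, l0, l1, l2, l3, l4, lw, mul_one,
      one_mul] at key
    simpa [hc w3 hw3, ← mul_assoc] using key
  subst h3
  simp only [one_mul] at m12
  have h4 : w4 = 1 := by
    obtain ⟨kA, hkA, eA⟩ : ∃ k ∈ σ.ker,
        G * (A3 * A4 * A5 * A6) * G⁻¹ = (A1 * A2 * A3 * A5 * A6) * k := by
      refine ⟨(A1 * A2 * A3 * A5 * A6)⁻¹ * (G * (A3 * A4 * A5 * A6) * G⁻¹), ?_,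
        (mul_inv_cancel_left _ _).symm⟩
      rw [MonoidHom.mem_ker]
      simp only [map_mul, map_inv, ag, a1, a2, a3, a4, a5, a6]
      rw [D.hg1, mul_inv_cancel_right, inv_mul_cancel]
    obtain ⟨kB, hkB, eB⟩ : ∃ k ∈ σ.ker,
        G * (A1 * A2 * A4 * A5 * A6) * G⁻¹ = (A2 * A3 * A4 * A5 * A6) * k := by
      refine ⟨(A2 * A3 * A4 * A5 * A6)⁻¹ * (G * (A1 * A2 * A4 * A5 * A6) * G⁻¹), ?_,
        (mul_inv_cancel_left _ _).symm⟩
      rw [MonoidHom.mem_ker]
      simp only [map_mul, map_inv, ag, a1, a2, a3, a4, a5, a6]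
      rw [D.hg2, mul_inv_cancel_right, inv_mul_cancel]
    have sq : ∀ (X Y k : Γ), k ∈ σ.ker → G * X * G⁻¹ = Y * k → G * (X * X) * G⁻¹ = Y * Y := by
      intro X Y k hk h
      calc G * (X * X) * G⁻¹ = (G * X * G⁻¹) * (G * X * G⁻¹) := by group
        _ = Y * (k * Y) * k := by rw [h]; simp [mul_assoc]
        _ = Y * Y * (k * k) := by rw [← hc k hk Y]; simp [mul_assoc]
        _ = Y * Y := by rw [hker k hk, mul_one]
    have fA := sq _ _ _ hkA eA
    have fB := sq _ _ _ hkB eB
    have l1 := pull hw4 A1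
    have l2 := pull hw4 A2
    have l3 := pull hw4 A3
    have l4 := pull hw4 A4
    have l5 := pull hw4 A5
    have e1 : (A1 * A2 * A3 * A5 * A6) * (A1 * A2 * A3 * A5 * A6) =
        (A2 * A3 * A4 * A5 * A6) * (A2 * A3 * A4 * A5 * A6) := by
      simp only [mul_assoc, s1, s2, s3, s4, s5, s6, L s1, L s2, L s3, L s4, L s5, L s6, c13, c15, c16, c23,
        c24, c26, c34, c35, c36, c46, c56, L c13, L c15, L c16, L c23, L c24, L c26, L c34, L c35, L c36,
        L c46, L c56, m12, m25, m45, L m12, L m25, L m45, mul_one, one_mul]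
    rw [e1, ← fB] at fA
    have e2 := mul_left_cancel (mul_right_cancel fA)
    simp only [mul_assoc, s1, s2, s3, s4, s5, s6, L s1, L s2, L s3, L s4, L s5, L s6, c13, c15, c16, c23,
      c24, c26, c34, c35, c36, c46, c56, L c13, L c15, L c16, L c23, L c24, L c26, L c34, L c35, L c36,
      L c46, L c56, m12, m14, m25, m45, L m12, L m14, L m25, L m45, l1, l2, l3, l4, l5, mul_one,
      one_mul] at e2
    simpa using e2
  subst h4
  simp only [one_mul] at m14
  refine stem_false hσ S hz hzo fun t htk ht => ?_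
  set T := closure ({A0, A1, A2, A3, A4, A5, A6} : Set Γ) with hT
  have conj_eq : ∀ {X Y W : Γ}, X * X = 1 → Y * X = X * W → X * Y * X = W := fun {X Y W} hX h => by
    rw [mul_assoc, h, ← mul_assoc, hX, one_mul]
  have hcard : Nat.card T ≤ 128 := by
    have b6 : Nat.card (closure ({A6} : Set Γ)) ≤ 2 := by
      have := card_closure_insert_le (s := (∅ : Set Γ)) s6 (fun x hx => hx.elim)
      rwa [insert_empty_eq, Subgroup.closure_empty, Subgroup.card_bot, mul_one] at this
    have b5 := card_closure_insert_le (s := {A6}) s5 (fun x hx => by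
      rw [Set.mem_singleton_iff] at hx
      subst hx
      rw [conj_eq s5 c56]
      exact subset_closure rfl)
    have b4 := card_closure_insert_le (s := {A5, A6}) s4 (fun x hx => by
      rcases hx with rfl | rfl
      · rw [conj_eq s4 m45]
        exact mul_mem (subset_closure (by simp)) (subset_closure (by simp))
      · rw [conj_eq s4 c46]; exact subset_closure (by simp))
    have b3 := card_closure_insert_le (s := {A4, A5, A6}) s3 (fun x hx => by
      rcases hx with rfl | rfl | rfl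
      · rw [conj_eq s3 c34]; exact subset_closure (by simp)
      · rw [conj_eq s3 c35]; exact subset_closure (by simp)
      · rw [conj_eq s3 c36]; exact subset_closure (by simp))
    have b2 := card_closure_insert_le (s := {A3, A4, A5, A6}) s2 (fun x hx => by
      rcases hx with rfl | rfl | rfl | rfl
      · rw [conj_eq s2 c23]; exact subset_closure (by simp)
      · rw [conj_eq s2 c24]; exact subset_closure (by simp)
      · rw [conj_eq s2 m25]
        exact mul_mem (subset_closure (by simp)) (subset_closure (by simp))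
      · rw [conj_eq s2 c26]; exact subset_closure (by simp))
    have b1 := card_closure_insert_le (s := {A2, A3, A4, A5, A6}) s1 (fun x hx => by
      rcases hx with rfl | rfl | rfl | rfl | rfl
      · rw [conj_eq s1 m12]
        exact mul_mem (subset_closure (by simp)) (subset_closure (by simp))
      · rw [conj_eq s1 c13]; exact subset_closure (by simp)
      · rw [conj_eq s1 m14]
        exact mul_mem (subset_closure (by simp))
          (mul_mem (subset_closure (by simp)) (subset_closure (by simp)))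
      · rw [conj_eq s1 c15]; exact subset_closure (by simp)
      · rw [conj_eq s1 c16]; exact subset_closure (by simp))
    have b0 := card_closure_insert_le (s := {A1, A2, A3, A4, A5, A6}) s0 (fun x hx => by
      rcases hx with rfl | rfl | rfl | rfl | rfl | rfl
      · rw [conj_eq s0 m01]
        exact mul_mem (subset_closure (by simp)) (subset_closure (by simp))
      · rw [conj_eq s0 c02]; exact subset_closure (by simp)
      · rw [conj_eq s0 c03]; exact subset_closure (by simp)
      · rw [conj_eq s0 m04]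
        exact mul_mem (subset_closure (by simp))
          (mul_mem (subset_closure (by simp)) (subset_closure (by simp)))
      · rw [conj_eq s0 c05]; exact subset_closure (by simp)
      · rw [conj_eq s0 m06]
        exact mul_mem (subset_closure (by simp)) (subset_closure (by simp)))
    rw [hT]
    omega
  have himg : T.map σ = (S : Subgroup Q) := by
    rw [hS, hT, MonoidHom.map_closure]
    simp only [Set.image_insert_eq, Set.image_singleton, a0, a1, a2, a3, a4, a5, a6]
  have hbot : ∀ x ∈ T, x ∈ σ.ker → x = 1 := by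
    intro x hx hxk
    let f : T →* Q := σ.comp T.subtype
    have hr : f.range = T.map σ := by
      rw [MonoidHom.range_comp, range_subtype]
    have h1 := f.ker.card_mul_index
    rw [Subgroup.index_ker, hr, himg, hS, D.card] at h1
    have hk : Nat.card f.ker = 1 := by
      have : 0 < Nat.card f.ker := Nat.card_pos
      by_contra hne
      have : 2 * 128 ≤ Nat.card f.ker * 128 := Nat.mul_le_mul_right _ (by omega)
      omega
    have hmem : (⟨x, hx⟩ : T) ∈ f.ker := hxk
    rw [Subgroup.card_eq_one.1 hk, mem_bot] at hmem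
    exact congrArg Subtype.val hmem
  have hle : (S : Subgroup Q).comap σ ≤ T ⊔ σ.ker := by rw [← himg, Subgroup.comap_map_eq]
  have h1 := commutator_sup_center_le (K := T) hσ.2.1 (commutator_mono hle hle ht)
  exact hbot t (Subgroup.commutator_le_self T h1) htk

end Cfsg.Agent.FGS4.SchurSylow
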