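import Cfsg.Agent.FGS2.SchurTools
import Cfsg.Agent.Transfer.CentralTransfer
import Mathlib.GroupTheory.Sylow

/-! A stem extension has no kernel element of order `p` if the preimage of a Sylow `p`-subgroup has
derived subgroup meeting the kernel trivially. -/

set_option autoImplicit false

namespace Cfsg.Agent.FGS4.SchurSylow

open Subgroup
open scoped commutatorElement

universe u v

variable {Γ : Type u} [Group Γ] {Q : Type v} [Group Q]

theorem stem_false [Finite Γ] {σ : Γ →* Q} (hσ : Cfsg.IsStemExtension σ) {p : ℕ} [Fact p.Prime]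
    (S : Sylow p Q) {z : Γ} (hz : z ∈ σ.ker) (hzo : orderOf z = p)
    (hH : ∀ x ∈ σ.ker, x ∈ ⁅(S : Subgroup Q).comap σ, (S : Subgroup Q).comap σ⁆ → x = 1) :
    False := by
  haveI : Finite Q := Finite.of_surjective σ hσ.1
  set H := (S : Subgroup Q).comap σ with hHdef
  have hzH : z ∈ H := by
    rw [hHdef, Subgroup.mem_comap, MonoidHom.mem_ker.1 hz]
    exact one_mem _
  have h1 := Cfsg.Agent.Transfer.pow_index_eq_one_of_mem_center
    (Abelianization.of : H →* Abelianization H) ⟨z, hzH⟩ (hσ.2.1 hz) (hσ.2.2 hz)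
  rw [← map_pow, ← MonoidHom.mem_ker, Abelianization.ker_of] at h1
  have h2 : z ^ H.index ∈ ⁅H, H⁆ := by
    rw [← Subgroup.map_subtype_commutator]
    exact ⟨_, h1, rfl⟩
  have h3 := orderOf_dvd_of_pow_eq_one (hH _ (pow_mem hz _) h2)
  rw [hzo, hHdef, Subgroup.index_comap_of_surjective _ hσ.1] at h3
  exact S.not_dvd_index h3

theorem commutator_sup_center_le {K Z : Subgroup Γ} (hZ : Z ≤ center Γ) :
    ⁅K ⊔ Z, K ⊔ Z⁆ ≤ ⁅K, K⁆ := by
  haveI : Z.Normal := ⟨fun n hn g => by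
    rwa [mem_center_iff.1 (hZ hn) g, mul_inv_cancel_right]⟩
  rw [commutator_le]
  intro a ha b hb
  rw [← SetLike.mem_coe, mul_normal] at ha hb
  obtain ⟨k, hk, w, hw, rfl⟩ := ha
  obtain ⟨k', hk', w', hw', rfl⟩ := hb
  have hwc := mem_center_iff.1 (hZ hw)
  have hwc' := mem_center_iff.1 (hZ hw')
  have e : ⁅k * w, k' * w'⁆ = ⁅k, k'⁆ := by
    have i1 : ∀ y : Γ, w * y * w⁻¹ = y := fun y => by rw [← hwc y, mul_inv_cancel_right]
    have i2 : ∀ y : Γ, w' * y * w'⁻¹ = y := fun y => by rw [← hwc' y, mul_inv_cancel_right]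
    calc ⁅k * w, k' * w'⁆ = k * (w * (k' * w') * w⁻¹) * k⁻¹ * w'⁻¹ * k'⁻¹ := by
          rw [commutatorElement_def]; group
      _ = k * (k' * w') * k⁻¹ * w'⁻¹ * k'⁻¹ := by rw [i1]
      _ = k * k' * (w' * k⁻¹ * w'⁻¹) * k'⁻¹ := by group
      _ = ⁅k, k'⁆ := by rw [i2, commutatorElement_def]
  show ⁅k * w, k' * w'⁆ ∈ ⁅K, K⁆
  rw [e]
  exact commutator_mem_commutator hk hk'

/-- Cyclic Sylow subgroups contribute nothing. -/
theorem stem_false_cyclic [Finite Γ] {σ : Γ →* Q} (hσ : Cfsg.IsStemExtension σ) {p : ℕ} [Fact p.Prime]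
    (S : Sylow p Q) (hS : IsCyclic S) {z : Γ} (hz : z ∈ σ.ker) (hzo : orderOf z = p) : False := by
  refine stem_false hσ S hz hzo fun x _ hx => ?_
  obtain ⟨⟨g, hg⟩, hgen⟩ := hS.exists_generator
  obtain ⟨a, rfl⟩ := hσ.1 g
  have hle : (S : Subgroup Q).comap σ ≤ zpowers a ⊔ σ.ker := by
    intro y hy
    obtain ⟨i, hi⟩ := mem_zpowers_iff.1 (hgen ⟨σ y, hy⟩)
    have hi' : σ a ^ i = σ y := congrArg Subtype.val hi
    rw [← Subgroup.comap_map_eq, Subgroup.mem_comap, ← hi', ← map_zpow]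
    exact mem_map_of_mem _ (zpow_mem (mem_zpowers a) i)
  have := commutator_sup_center_le (K := zpowers a) hσ.2.1 (commutator_mono hle hle hx)
  rw [commutator_eq_bot_iff_le_centralizer.2 (fun y hy => mem_centralizer_iff.2 fun w hw => by
    obtain ⟨i, rfl⟩ := mem_zpowers_iff.1 hy
    obtain ⟨j, rfl⟩ := mem_zpowers_iff.1 hw
    exact zpow_mul_comm a j i)] at this
  exact mem_bot.1 this

/-- An elementary abelian Sylow 3-subgroup `⟨u, v⟩` with an element swapping `u` and `v`. -/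
theorem stem_false_swap [Finite Γ] {σ : Γ →* Q} (hσ : Cfsg.IsStemExtension σ) {p : ℕ} [Fact p.Prime]
    (hp2 : p ≠ 2) (S : Sylow p Q) {u v g : Q} (hS : (S : Subgroup Q) = closure {u, v})
    (hu : u ^ p = 1) (huv : u * v = v * u) (hg1 : g * u = v * g) (hg2 : g * v = u * g)
    {z : Γ} (hz : z ∈ σ.ker) (hzo : orderOf z = p) : False := by
  refine stem_false hσ S hz hzo fun x _ hx => ?_
  obtain ⟨A, rfl⟩ := hσ.1 u
  obtain ⟨B, rfl⟩ := hσ.1 v
  obtain ⟨G, rfl⟩ := hσ.1 g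
  have hc : ∀ w ∈ σ.ker, ∀ y : Γ, y * w = w * y := fun w hw => mem_center_iff.1 (hσ.2.1 hw)
  have hcz : ⁅A, B⁆ ∈ σ.ker := by
    rw [MonoidHom.mem_ker, map_commutatorElement, commutatorElement_eq_one_iff_mul_comm, huv]
  set c := ⁅A, B⁆ with hcdef
  have hconj : A * B * A⁻¹ = c * B := by rw [hcdef, commutatorElement_def]; group
  have hpow : ∀ n : ℕ, A ^ n * B * (A ^ n)⁻¹ = c ^ n * B := by
    intro n
    induction n with
    | zero => simp
    | succ n ih =>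
      calc A ^ (n + 1) * B * (A ^ (n + 1))⁻¹ = A * (A ^ n * B * (A ^ n)⁻¹) * A⁻¹ := by group
        _ = A * c ^ n * B * A⁻¹ := by rw [ih]; group
        _ = c ^ n * (A * B * A⁻¹) := by rw [hc _ (pow_mem hcz n) A]; group
        _ = c ^ (n + 1) * B := by rw [hconj, pow_succ]; group
  have hcp : c ^ p = 1 := by
    have hAp : A ^ p ∈ σ.ker := by rw [MonoidHom.mem_ker, map_pow, hu]
    have := hpow p
    rw [← hc _ hAp B, mul_inv_cancel_right] at this
    exact mul_eq_right.1 this.symm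
  obtain ⟨w1, hw1, e1⟩ : ∃ w ∈ σ.ker, G * A * G⁻¹ = B * w := by
    refine ⟨B⁻¹ * (G * A * G⁻¹), ?_, (mul_inv_cancel_left _ _).symm⟩
    rw [MonoidHom.mem_ker, map_mul, map_mul, map_mul, map_inv, map_inv, hg1]; group
  obtain ⟨w2, hw2, e2⟩ : ∃ w ∈ σ.ker, G * B * G⁻¹ = A * w := by
    refine ⟨A⁻¹ * (G * B * G⁻¹), ?_, (mul_inv_cancel_left _ _).symm⟩
    rw [MonoidHom.mem_ker, map_mul, map_mul, map_mul, map_inv, map_inv, hg2]; group
  have hc2 : c ^ 2 = 1 := by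
    have h1 : G * c * G⁻¹ = c := by rw [hc c hcz G, mul_inv_cancel_right]
    have h2 : G * c * G⁻¹ = ⁅G * A * G⁻¹, G * B * G⁻¹⁆ := conjugate_commutatorElement A B G
    rw [h1, e1, e2] at h2
    have h3 : ⁅B * w1, A * w2⁆ = c⁻¹ := by
      have i1 : ∀ y : Γ, w1 * y * w1⁻¹ = y := fun y => by rw [← hc _ hw1 y, mul_inv_cancel_right]
      have i2 : ∀ y : Γ, w2 * y * w2⁻¹ = y := fun y => by rw [← hc _ hw2 y, mul_inv_cancel_right]
      calc ⁅B * w1, A * w2⁆ = B * (w1 * (A * w2) * w1⁻¹) * B⁻¹ * w2⁻¹ * A⁻¹ := by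
            rw [commutatorElement_def]; group
        _ = B * (A * w2) * B⁻¹ * w2⁻¹ * A⁻¹ := by rw [i1]
        _ = B * A * (w2 * B⁻¹ * w2⁻¹) * A⁻¹ := by group
        _ = c⁻¹ := by rw [i2, hcdef, commutatorElement_def]; group
    rw [h3] at h2
    rw [pow_two]
    nth_rw 1 [h2]
    exact inv_mul_cancel c
  have hc1 : c = 1 := by
    have hco : Nat.Coprime 2 p :=
      (Nat.coprime_primes Nat.prime_two (Fact.out : p.Prime)).2 (Ne.symm hp2)
    rw [← orderOf_eq_one_iff]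
    exact Nat.eq_one_of_dvd_coprimes hco (orderOf_dvd_of_pow_eq_one hc2) (orderOf_dvd_of_pow_eq_one hcp)
  have hAB : A * B = B * A := commutatorElement_eq_one_iff_mul_comm.1 hc1
  have hle : (S : Subgroup Q).comap σ ≤ closure {A, B} ⊔ σ.ker := by
    rw [← Subgroup.comap_map_eq, MonoidHom.map_closure, Set.image_pair, hS]
  have := commutator_sup_center_le (K := closure {A, B}) hσ.2.1 (commutator_mono hle hle hx)
  rw [commutator_eq_bot_iff_le_centralizer.2 (by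
    rw [closure_le]
    intro y hy
    rw [SetLike.mem_coe, mem_centralizer_iff]
    suffices closure {A, B} ≤ centralizer {y} from fun w hw => (mem_centralizer_iff.1 (this hw) y rfl).symm
    rw [closure_le]
    intro w hw
    rw [SetLike.mem_coe, mem_centralizer_singleton_iff]
    rcases hy with rfl | rfl <;> rcases hw with rfl | rfl <;> first | rfl | exact hAB | exact hAB.symm)] at this
  exact mem_bot.1 this

/-- A quasi-dihedral Sylow 2-subgroup of order 16. -/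
theorem stem_false_semidihedral [Finite Γ] {σ : Γ →* Q} (hσ : Cfsg.IsStemExtension σ)
    (S : Sylow 2 Q) {x y : Q} (hS : (S : Subgroup Q) = closure {x, y})
    (hx : orderOf x = 8) (hy : orderOf y = 2) (hyx : y * x * y⁻¹ = x ^ 3)
    {z : Γ} (hz : z ∈ σ.ker) (hzo : orderOf z = 2) : False := by
  refine stem_false hσ S hz hzo fun t htk ht => ?_
  obtain ⟨A, rfl⟩ := hσ.1 x
  obtain ⟨X, rfl⟩ := hσ.1 y
  have hc : ∀ w ∈ σ.ker, ∀ y : Γ, y * w = w * y := fun w hw => mem_center_iff.1 (hσ.2.1 hw)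
  obtain ⟨w, hw, e⟩ : ∃ w ∈ σ.ker, X * A * X⁻¹ = A ^ 3 * w := by
    refine ⟨(A ^ 3)⁻¹ * (X * A * X⁻¹), ?_, (mul_inv_cancel_left _ _).symm⟩
    rw [MonoidHom.mem_ker, map_mul, map_inv, map_mul, map_mul, map_inv, map_pow, hyx, inv_mul_cancel]
  have hA : ∀ n : ℕ, A ^ n * w = w * A ^ n := fun n => hc w hw _
  have hcw : Commute A w := hc w hw A
  have hc' : ⁅X, A⁆ = A ^ 2 * w := by
    rw [commutatorElement_def, e]
    calc A ^ 3 * w * A⁻¹ = A ^ 3 * (w * A⁻¹) := by group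
      _ = A ^ 3 * (A⁻¹ * w) := by rw [(hcw.inv_left).eq]
      _ = A ^ 2 * w := by group
  have hX2 : X ^ 2 ∈ σ.ker := by rw [MonoidHom.mem_ker, map_pow, ← hy, pow_orderOf_eq_one]
  have hpow : ∀ n : ℕ, X * A ^ n * X⁻¹ = A ^ (3 * n) * w ^ n := by
    intro n
    rw [← conj_pow, e, (hcw.pow_left 3).mul_pow, ← pow_mul]
  have hwX : X * w * X⁻¹ = w := by rw [hc w hw X, mul_inv_cancel_right]
  have key : A ^ 8 * w ^ 4 = 1 := by
    have h1 : X ^ 2 * A * (X ^ 2)⁻¹ = A := by rw [← hc _ hX2 A, mul_inv_cancel_right]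
    have h2 : X ^ 2 * A * (X ^ 2)⁻¹ = (X * A ^ 3 * X⁻¹) * (X * w * X⁻¹) := by
      calc X ^ 2 * A * (X ^ 2)⁻¹ = X * (X * A * X⁻¹) * X⁻¹ := by simp [pow_two, mul_assoc]
        _ = _ := by rw [e]; group
    rw [hpow 3, hwX, h1] at h2
    have h3 : A = A * (A ^ 8 * w ^ 4) := by
      calc A = A ^ (3 * 3) * w ^ 3 * w := h2
        _ = _ := by rw [pow_succ w 3, ← mul_assoc, ← mul_assoc, ← pow_succ']
    exact mul_eq_left.1 h3.symm
  have hc4 : ⁅X, A⁆ ^ 4 = 1 := by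
    rw [hc', (hcw.pow_left 2).mul_pow, ← pow_mul, key]
  have hle : (S : Subgroup Q).comap σ ≤ closure {A, X} ⊔ σ.ker := by
    rw [← Subgroup.comap_map_eq, MonoidHom.map_closure, Set.image_pair, hS]
  have h1 := commutator_sup_center_le (K := closure {A, X}) hσ.2.1 (commutator_mono hle hle ht)
  set K := closure ({A, X} : Set Γ) with hK
  let a : K := ⟨A, subset_closure (by simp)⟩
  let b : K := ⟨X, subset_closure (by simp)⟩
  have hgen : closure ({a, b} : Set K) = ⊤ := by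
    apply map_injective (K.subtype_injective)
    rw [MonoidHom.map_closure, Set.image_pair, ← MonoidHom.range_eq_map, range_subtype]
    rfl
  have hac : a * ⁅b, a⁆ * a⁻¹ = ⁅b, a⁆ := by
    apply Subtype.ext
    show A * ⁅X, A⁆ * A⁻¹ = ⁅X, A⁆
    rw [hc', (((Commute.refl A).pow_right 2).mul_right hcw).eq, mul_inv_cancel_right]
  have hbc : b * ⁅b, a⁆ * b⁻¹ = ⁅b, a⁆ ^ 3 := by
    apply Subtype.ext
    show X * ⁅X, A⁆ * X⁻¹ = ⁅X, A⁆ ^ 3
    rw [hc', ← conj_mul, hpow 2, hwX, (hcw.pow_left 2).mul_pow, ← pow_mul, mul_assoc, ← pow_succ]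
  have h2 := Cfsg.Agent.FGS2.commutator_le_zpowers hgen (by rw [hac]; exact mem_zpowers _)
    (by rw [hbc]; exact pow_mem (mem_zpowers _) 3)
  rw [← Subgroup.map_subtype_commutator] at h1
  obtain ⟨k, hk, rfl⟩ := h1
  obtain ⟨i, rfl⟩ := mem_zpowers_iff.1 (h2 hk)
  have hcoe : K.subtype (⁅b, a⁆ ^ i) = ⁅X, A⁆ ^ i := by
    rw [map_zpow, map_commutatorElement]
    rfl
  rw [hcoe] at htk ⊢
  have hσc : σ ⁅X, A⁆ = σ A ^ 2 := by rw [hc', map_mul, MonoidHom.mem_ker.1 hw, mul_one, map_pow]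
  have hti : σ (⁅X, A⁆ ^ i) = 1 := by
    exact MonoidHom.mem_ker.1 htk
  rw [map_zpow, hσc, ← orderOf_dvd_iff_zpow_eq_one, orderOf_pow' _ two_ne_zero, hx] at hti
  have : ⁅X, A⁆ ^ i = 1 := by
    obtain ⟨j, rfl⟩ : (4 : ℤ) ∣ i := by simpa using hti
    rw [zpow_mul]; norm_cast; rw [hc4, one_zpow]
  exact this

end Cfsg.Agent.FGS4.SchurSylow
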