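import Cfsg.Agent.FGS4.SchurSylow.TwoM23

/-! Lifts of involutions in stem extensions with elementary abelian kernel, and extraspecial Sylow
3-subgroups. -/

set_option autoImplicit false

namespace Cfsg.Agent.FGS4.SchurSylow

open Subgroup
open scoped commutatorElement

universe u v

variable {Γ : Type u} [Group Γ] {Q : Type v} [Group Q] {σ : Γ →* Q}

theorem sq_eq_of_isConj (hσ : Cfsg.IsStemExtension σ) (hker : ∀ w ∈ σ.ker, w * w = 1) {u q : Q}
    (hu : u * u = 1) (hq : ∃ k, k * u * k⁻¹ = q) {X U : Γ} (hU : σ U = u) (hX : σ X = q) :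
    X * X = U * U := by
  obtain ⟨k, hk⟩ := hq
  obtain ⟨K, rfl⟩ := hσ.1 k
  have hc : ∀ w ∈ σ.ker, ∀ y : Γ, y * w = w * y := fun w hw => mem_center_iff.1 (hσ.2.1 hw)
  obtain ⟨w, hw, rfl⟩ : ∃ w ∈ σ.ker, X = K * U * K⁻¹ * w := ⟨(K * U * K⁻¹)⁻¹ * X, by
    rw [MonoidHom.mem_ker, map_mul, map_inv, map_mul, map_mul, map_inv, hU, hX, hk, inv_mul_cancel],
    (mul_inv_cancel_left _ _).symm⟩
  have hUU : U * U ∈ σ.ker := by rw [MonoidHom.mem_ker, map_mul, hU, hu]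
  calc K * U * K⁻¹ * w * (K * U * K⁻¹ * w) = K * U * K⁻¹ * (w * (K * U * K⁻¹)) * w := by group
    _ = K * (U * U) * K⁻¹ * (w * w) := by rw [← hc w hw]; group
    _ = U * U := by rw [hker w hw, mul_one, hc _ hUU K, mul_inv_cancel_right]

/-- An involution with an elementary abelian subgroup of order eight inside its class lifts to an
involution. -/
theorem lift_involution (hσ : Cfsg.IsStemExtension σ) (hker : ∀ w ∈ σ.ker, w * w = 1) {u a b c : Q}
    (hu : u * u = 1) (ha : ∃ k, k * u * k⁻¹ = a) (hb : ∃ k, k * u * k⁻¹ = b) (hc : ∃ k, k * u * k⁻¹ = c)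
    (hab : ∃ k, k * u * k⁻¹ = a * b) (hac : ∃ k, k * u * k⁻¹ = a * c) (hbc : ∃ k, k * u * k⁻¹ = b * c)
    (habc : ∃ k, k * u * k⁻¹ = a * b * c) {U : Γ} (hU : σ U = u) : U * U = 1 := by
  obtain ⟨A, hA⟩ := hσ.1 a
  obtain ⟨B, hB⟩ := hσ.1 b
  obtain ⟨C, hC⟩ := hσ.1 c
  have m : ∀ {X : Γ} {q : Q}, σ X = q → (∃ k, k * u * k⁻¹ = q) → X * X = U * U :=
    fun h1 h2 => sq_eq_of_isConj hσ hker hu h2 hU h1
  have hcen : ∀ w ∈ σ.ker, ∀ y : Γ, y * w = w * y := fun w hw => mem_center_iff.1 (hσ.2.1 hw)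
  have hw : U * U ∈ σ.ker := by rw [MonoidHom.mem_ker, map_mul, hU, hu]
  have anti : ∀ {X Y : Γ}, X * X = U * U → Y * Y = U * U → X * Y * (X * Y) = U * U →
      Y * X = X * Y * (U * U) := by
    intro X Y hX hY hXY
    calc Y * X = X⁻¹ * (X * Y * (X * Y)) * Y⁻¹ := by group
      _ = X⁻¹ * (U * U) * Y⁻¹ := by rw [hXY]
      _ = X * Y⁻¹ := by rw [← hX]; group
      _ = X * (Y * (U * U)) := by
        congr 1
        rw [inv_eq_iff_mul_eq_one, ← mul_assoc, hY, hker _ hw]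
      _ = X * Y * (U * U) := (mul_assoc _ _ _).symm
  have pAC := anti (m hA ha) (m hC hc) (m (by rw [map_mul, hA, hC]) hac)
  have pBC := anti (m hB hb) (m hC hc) (m (by rw [map_mul, hB, hC]) hbc)
  have pABC := anti (m (X := A * B) (by rw [map_mul, hA, hB]) hab) (m hC hc)
    (m (by rw [map_mul, map_mul, hA, hB, hC]) habc)
  have key : C * (A * B) = A * B * C := by
    calc C * (A * B) = (C * A) * B := (mul_assoc _ _ _).symm
      _ = A * C * (U * U) * B := by rw [pAC]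
      _ = A * (C * B) * (U * U) := by rw [mul_assoc (A * C), ← hcen _ hw B]; simp [mul_assoc]
      _ = A * B * C * (U * U * (U * U)) := by rw [pBC]; simp [mul_assoc]
      _ = A * B * C := by rw [hker _ hw, mul_one]
  rw [key] at pABC
  exact mul_eq_left.1 pABC.symm

/-- An extraspecial Sylow 3-subgroup `⟨u, v⟩` whose generators are inverted by elements centralizing
the commutator. -/
theorem stem_false_extraspecial [Finite Γ] (hσ : Cfsg.IsStemExtension σ) {p : ℕ} [Fact p.Prime]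
    (hp2 : p ≠ 2) (S : Sylow p Q) {u v g h : Q} (hS : (S : Subgroup Q) = closure {u, v})
    (hu : u ^ p = 1) (hv : v ^ p = 1) (hw : ⁅u, v⁆ ^ p = 1) (hw1 : ⁅u, v⁆ ≠ 1)
    (huw : u * ⁅u, v⁆ = ⁅u, v⁆ * u) (hvw : v * ⁅u, v⁆ = ⁅u, v⁆ * v)
    (hg1 : g * u * g⁻¹ = u⁻¹) (hg2 : g * ⁅u, v⁆ = ⁅u, v⁆ * g)
    (hh1 : h * v * h⁻¹ = v⁻¹) (hh2 : h * ⁅u, v⁆ = ⁅u, v⁆ * h)
    {z : Γ} (hz : z ∈ σ.ker) (hzo : orderOf z = p) : False := by
  refine stem_false hσ S hz hzo fun x hxk hx => ?_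
  obtain ⟨U, rfl⟩ := hσ.1 u
  obtain ⟨V, rfl⟩ := hσ.1 v
  obtain ⟨G, rfl⟩ := hσ.1 g
  obtain ⟨H, rfl⟩ := hσ.1 h
  rw [← map_commutatorElement] at hw hw1 huw hvw hg2 hh2
  set W := ⁅U, V⁆ with hW
  have hc : ∀ k ∈ σ.ker, ∀ y : Γ, y * k = k * y := fun k hk => mem_center_iff.1 (hσ.2.1 hk)
  have hpow : ∀ {A B c : Γ}, c ∈ σ.ker ∨ (A * c = c * A) → A * B * A⁻¹ = c * B → ∀ n : ℕ,
      A ^ n * B * (A ^ n)⁻¹ = c ^ n * B := by
    intro A B c hcA hconj n
    have hcA' : A * c = c * A := hcA.elim (fun h => hc c h A) id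
    induction n with
    | zero => simp
    | succ n ih =>
      calc A ^ (n + 1) * B * (A ^ (n + 1))⁻¹ = A * (A ^ n * B * (A ^ n)⁻¹) * A⁻¹ := by group
        _ = A * c ^ n * B * A⁻¹ := by rw [ih]; group
        _ = c ^ n * (A * B * A⁻¹) := by rw [(Commute.pow_right hcA' n).eq]; group
        _ = c ^ (n + 1) * B := by rw [hconj, pow_succ]; group
  have key : ∀ {A K : Γ}, σ A ^ p = 1 → σ K * σ A * (σ K)⁻¹ = (σ A)⁻¹ → σ K * σ W = σ W * σ K →
      σ A * σ W = σ W * σ A → A * W = W * A := by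
    intro A K hA hK1 hK2 hAW
    have hD : ⁅A, W⁆ ∈ σ.ker := by
      rw [MonoidHom.mem_ker, map_commutatorElement, commutatorElement_eq_one_iff_mul_comm, hAW]
    set D := ⁅A, W⁆ with hDd
    have hconj : A * W * A⁻¹ = D * W := by rw [hDd, commutatorElement_def]; group
    have hDp : D ^ p = 1 := by
      have hAp : A ^ p ∈ σ.ker := by rw [MonoidHom.mem_ker, map_pow, hA]
      have := hpow (Or.inl hD) hconj p
      rw [← hc _ hAp W, mul_inv_cancel_right] at this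
      exact mul_eq_right.1 this.symm
    obtain ⟨k1, hk1, e1⟩ : ∃ k ∈ σ.ker, K * A * K⁻¹ = A⁻¹ * k := by
      refine ⟨A * (K * A * K⁻¹), ?_, (inv_mul_cancel_left _ _).symm⟩
      rw [MonoidHom.mem_ker, map_mul, map_mul, map_mul, map_inv, hK1, mul_inv_cancel]
    obtain ⟨k2, hk2, e2⟩ : ∃ k ∈ σ.ker, K * W * K⁻¹ = W * k := by
      refine ⟨W⁻¹ * (K * W * K⁻¹), ?_, (mul_inv_cancel_left _ _).symm⟩
      rw [MonoidHom.mem_ker, map_mul, map_inv, map_mul, map_mul, map_inv, hK2, mul_inv_cancel_right,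
        inv_mul_cancel]
    have h1 : K * D * K⁻¹ = D := by rw [hc D hD K, mul_inv_cancel_right]
    have h2 : K * D * K⁻¹ = ⁅K * A * K⁻¹, K * W * K⁻¹⁆ := conjugate_commutatorElement A W K
    rw [h1, e1, e2] at h2
    have h3 : ⁅A⁻¹ * k1, W * k2⁆ = A⁻¹ * W * A * W⁻¹ := by
      have i1 : ∀ y : Γ, k1 * y * k1⁻¹ = y := fun y => by rw [← hc _ hk1 y, mul_inv_cancel_right]
      have i2 : ∀ y : Γ, k2 * y * k2⁻¹ = y := fun y => by rw [← hc _ hk2 y, mul_inv_cancel_right]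
      calc ⁅A⁻¹ * k1, W * k2⁆ = A⁻¹ * (k1 * (W * k2) * k1⁻¹) * A * k2⁻¹ * W⁻¹ := by
            rw [commutatorElement_def]; group
        _ = A⁻¹ * (W * k2) * A * k2⁻¹ * W⁻¹ := by rw [i1]
        _ = A⁻¹ * W * (k2 * A * k2⁻¹) * W⁻¹ := by group
        _ = A⁻¹ * W * A * W⁻¹ := by rw [i2]
    have h4 : A⁻¹ * W * A * W⁻¹ = D⁻¹ := by
      have hAD : A * D⁻¹ = D⁻¹ * A := (Commute.inv_right (hc D hD A)).eq
      rw [mul_inv_eq_iff_eq_mul, mul_assoc, inv_mul_eq_iff_eq_mul, ← mul_assoc A, hAD]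
      calc W * A = D⁻¹ * (D * W) * A := by group
        _ = D⁻¹ * A * W := by rw [← hconj]; group
    rw [h3, h4] at h2
    have hD2 : D ^ 2 = 1 := by
      rw [pow_two]
      nth_rw 1 [h2]
      exact inv_mul_cancel D
    have hco : Nat.Coprime 2 p :=
      (Nat.coprime_primes Nat.prime_two (Fact.out : p.Prime)).2 (Ne.symm hp2)
    have hD1 : D = 1 := by
      rw [← orderOf_eq_one_iff]
      exact Nat.eq_one_of_dvd_coprimes hco (orderOf_dvd_of_pow_eq_one hD2) (orderOf_dvd_of_pow_eq_one hDp)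
    exact commutatorElement_eq_one_iff_mul_comm.1 hD1
  have hUW : U * W = W * U := key hu hg1 hg2 huw
  have hVW : V * W = W * V := key hv hh1 hh2 hvw
  have hWp : W ^ p = 1 := by
    have hUp : U ^ p ∈ σ.ker := by rw [MonoidHom.mem_ker, map_pow, hu]
    have := hpow (A := U) (B := V) (c := W) (Or.inr hUW) (by simp [hW, commutatorElement_def, mul_assoc]) p
    rw [← hc _ hUp V, mul_inv_cancel_right] at this
    exact mul_eq_right.1 this.symm
  have hord : orderOf (σ W) = p := orderOf_eq_prime hw hw1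
  have hle : (S : Subgroup Q).comap σ ≤ closure {V, U} ⊔ σ.ker := by
    rw [← Subgroup.comap_map_eq, MonoidHom.map_closure, Set.image_pair, hS, Set.pair_comm]
  have h1 := commutator_sup_center_le (K := closure {V, U}) hσ.2.1 (commutator_mono hle hle hx)
  set K := closure ({V, U} : Set Γ) with hK
  let a : K := ⟨V, subset_closure (by simp)⟩
  let b : K := ⟨U, subset_closure (by simp)⟩
  have hgen : closure ({a, b} : Set K) = ⊤ := by
    apply map_injective (K.subtype_injective)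
    rw [MonoidHom.map_closure, Set.image_pair, ← MonoidHom.range_eq_map, range_subtype]
    rfl
  have hac : a * ⁅b, a⁆ * a⁻¹ = ⁅b, a⁆ := by
    apply Subtype.ext
    show V * W * V⁻¹ = W
    rw [hVW, mul_inv_cancel_right]
  have hbc : b * ⁅b, a⁆ * b⁻¹ = ⁅b, a⁆ := by
    apply Subtype.ext
    show U * W * U⁻¹ = W
    rw [hUW, mul_inv_cancel_right]
  have h2 := Cfsg.Agent.FGS2.commutator_le_zpowers hgen (by rw [hac]; exact mem_zpowers _)
    (by rw [hbc]; exact mem_zpowers _)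
  rw [← Subgroup.map_subtype_commutator] at h1
  obtain ⟨k, hk, rfl⟩ := h1
  obtain ⟨i, rfl⟩ := mem_zpowers_iff.1 (h2 hk)
  have hcoe : K.subtype (⁅b, a⁆ ^ i) = W ^ i := by
    rw [map_zpow, map_commutatorElement]
    rfl
  rw [hcoe] at hxk ⊢
  rw [MonoidHom.mem_ker, map_zpow, ← orderOf_dvd_iff_zpow_eq_one, hord] at hxk
  obtain ⟨j, rfl⟩ := hxk
  rw [zpow_mul, zpow_natCast, hWp, one_zpow]

theorem exists_elementary_quotient [Finite Γ] (hσ : Cfsg.IsStemExtension σ) (h2 : 2 ∣ Nat.card σ.ker) :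
    ∃ (M : Subgroup Γ) (_ : M.Normal) (τ : Γ ⧸ M →* Q) (z : Γ ⧸ M), Cfsg.IsStemExtension τ ∧
      (∀ w ∈ τ.ker, w * w = 1) ∧ z ∈ τ.ker ∧ orderOf z = 2 := by
  obtain ⟨⟨z, hz⟩, hzo⟩ := exists_prime_orderOf_dvd_card' (p := 2) (G := σ.ker) h2
  have hc : ∀ w ∈ σ.ker, ∀ y : Γ, y * w = w * y := fun w hw => Subgroup.mem_center_iff.1 (hσ.2.1 hw)
  let sqr : σ.ker →* σ.ker :=
    { toFun := fun x => x * x
      map_one' := one_mul 1
      map_mul' := fun x y => by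
        have hxy : y * x = x * y := Subtype.ext (hc _ x.2 y)
        calc x * y * (x * y) = x * (y * x) * y := by simp [mul_assoc]
          _ = x * x * (y * y) := by rw [hxy]; simp [mul_assoc] }
  set M : Subgroup Γ := sqr.range.map σ.ker.subtype with hM
  have hMk : M ≤ σ.ker := Subgroup.map_subtype_le _
  haveI hMn : M.Normal := ⟨fun n hn g => by rwa [hc n (hMk hn) g, mul_inv_cancel_right]⟩
  obtain ⟨u, hu⟩ : ∃ u : σ.ker, u ∉ sqr.range := by
    by_contra hall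
    push Not at hall
    have hinj := (Finite.injective_iff_surjective (f := sqr)).2 fun x => hall x
    have h1 : (⟨z, hz⟩ : σ.ker) = 1 := hinj (by
      show (⟨z, hz⟩ : σ.ker) * ⟨z, hz⟩ = 1 * 1
      rw [one_mul, ← pow_two, ← hzo, pow_orderOf_eq_one])
    rw [h1, orderOf_one] at hzo
    exact absurd hzo (by norm_num)
  let τ := QuotientGroup.lift M σ hMk
  have hτk : ∀ q ∈ τ.ker, ∃ x ∈ σ.ker, QuotientGroup.mk' M x = q := by
    intro q hq
    obtain ⟨x, rfl⟩ := QuotientGroup.mk'_surjective M q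
    exact ⟨x, hq, rfl⟩
  have hτ : Cfsg.IsStemExtension τ := by
    refine ⟨fun q => ?_, ?_, ?_⟩
    · obtain ⟨x, hx⟩ := hσ.1 q
      exact ⟨QuotientGroup.mk' M x, hx⟩
    · intro q hq
      obtain ⟨x, hx, rfl⟩ := hτk q hq
      refine Subgroup.mem_center_iff.2 fun y => ?_
      obtain ⟨y, rfl⟩ := QuotientGroup.mk'_surjective M y
      rw [← map_mul, ← map_mul, hc x hx y]
    · intro q hq
      obtain ⟨x, hx, rfl⟩ := hτk q hq
      have := Subgroup.mem_map_of_mem (QuotientGroup.mk' M) (hσ.2.2 hx)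
      rw [commutator_def, Subgroup.map_commutator,
        Subgroup.map_top_of_surjective _ (QuotientGroup.mk'_surjective M), ← commutator_def] at this
      exact this
  have hsq : ∀ q ∈ τ.ker, q * q = 1 := by
    intro q hq
    obtain ⟨x, hx, rfl⟩ := hτk q hq
    rw [← map_mul, QuotientGroup.mk'_apply, QuotientGroup.eq_one_iff]
    exact ⟨sqr ⟨x, hx⟩, ⟨_, rfl⟩, rfl⟩
  refine ⟨M, hMn, τ, QuotientGroup.mk' M u, hτ, hsq, u.2, orderOf_eq_prime (by rw [pow_two]; exact hsq _ u.2) ?_⟩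
  intro h
  rw [QuotientGroup.mk'_apply, QuotientGroup.eq_one_iff] at h
  obtain ⟨v, hv, hvu⟩ := h
  exact hu (Subtype.ext hvu ▸ hv)

end Cfsg.Agent.FGS4.SchurSylow
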